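import Mathlib
import Cfsg.Agent.Lib.Involutions.Basic
import Cfsg.Agent.Lib.ZStar.Main
import Cfsg.Agent.InvChar.Core
import Cfsg.Agent.S0205

/-!
# Frobenius systems on the maximal solvable subgroups

A maximal solvable subgroup containing a Sylow 2-normaliser, together with its kernel.
-/

set_option autoImplicit false
set_option linter.unusedSectionVars false
set_option linter.style.haveILetI false

open scoped Pointwise commutatorElement

namespace Cfsg.Agent.FrobeniusSystem

open Subgroup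

universe u

variable {G : Type u} [Group G] [Finite G]

/-- Solvable and in no larger solvable subgroup. -/
def MaxSol (M : Subgroup G) : Prop :=
  Group.IsSolvable M ∧ ∀ M' : Subgroup G, M < M' → ¬ Group.IsSolvable M'

theorem exists_maxSol {S : Subgroup G} (hS : Group.IsSolvable S) :
    ∃ M : Subgroup G, S ≤ M ∧ MaxSol M := by
  classical
  haveI : Fintype (Subgroup G) := Fintype.ofFinite _
  obtain ⟨M, hM, hmax⟩ := (Finset.univ.filter fun K : Subgroup G => S ≤ K ∧ Group.IsSolvable K).exists_maximal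
    ⟨S, Finset.mem_filter.2 ⟨Finset.mem_univ _, le_rfl, hS⟩⟩
  obtain ⟨-, hSM, hMs⟩ := Finset.mem_filter.1 hM
  exact ⟨M, hSM, hMs, fun M' hlt hs => hlt.not_ge
    (hmax (Finset.mem_filter.2 ⟨Finset.mem_univ _, hSM.trans hlt.le, hs⟩) hlt.le)⟩

theorem isSolvable_of_le {A B : Subgroup G} (hB : Group.IsSolvable B) (hAB : A ≤ B) :
    Group.IsSolvable A :=
  haveI := hB
  Group.isSolvable_of_isSolvable_injective (Subgroup.inclusion_injective hAB)

theorem isSolvable_sup_normal {A N : Subgroup G} [N.Normal] (hA : Group.IsSolvable A)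
    (hN : Group.IsSolvable N) : Group.IsSolvable ↥(A ⊔ N) := by
  haveI := hA
  haveI := hN
  set f := QuotientGroup.mk' N with hf
  haveI : Group.IsSolvable (A.map f) :=
    Group.isSolvable_of_surjective (f := f.subgroupMap A) (f.subgroupMap_surjective A)
  have heq : (A.map f).comap f = A ⊔ N := by rw [Subgroup.comap_map_eq, hf, QuotientGroup.ker_mk']
  rw [← heq]
  have hNle : N ≤ (A.map f).comap f := by rw [heq]; exact le_sup_right
  refine Group.isSolvable_of_ker_le_range (Subgroup.inclusion hNle) (f.subgroupComap (A.map f)) fun x hx => ?_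
  have h1 : f x = 1 := congrArg Subtype.val (MonoidHom.mem_ker.1 hx)
  exact ⟨⟨x, (QuotientGroup.eq_one_iff _).1 h1⟩, rfl⟩

/-- Burnside's transfer and the odd order theorem. -/
theorem isSolvable_of_sylow_two_central (S : Sylow 2 G)
    (hS : Subgroup.normalizer ((S : Subgroup G) : Set G) ≤ Subgroup.centralizer ((S : Subgroup G) : Set G)) :
    Group.IsSolvable G := by
  haveI : Fact (Nat.Prime 2) := ⟨Nat.prime_two⟩
  set f := MonoidHom.transferSylow S hS with hf
  haveI : Group.IsSolvable f.ker := Cfsg.Agent.S0205.result (Nat.not_even_iff_odd.1 fun e =>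
    MonoidHom.not_dvd_card_ker_transferSylow S hS e.two_dvd)
  haveI : Group.IsSolvable (S : Subgroup G) := Group.isSolvable_of_comm fun x y => Subtype.ext
    (Subgroup.mem_centralizer_iff.1 (hS (Subgroup.le_normalizer y.2)) x x.2)
  exact Group.isSolvable_of_ker_le_range f.ker.subtype f (Subgroup.range_subtype _).ge

theorem isSolvable_normalizer_sylow_two (S : Sylow 2 G) :
    Group.IsSolvable (Subgroup.normalizer ((S : Subgroup G) : Set G)) := by
  haveI : Fact (Nat.Prime 2) := ⟨Nat.prime_two⟩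
  haveI : Group.IsSolvable (S : Subgroup G) :=
    haveI := S.2.isNilpotent
    inferInstance
  set N := Subgroup.normalizer ((S : Subgroup G) : Set G)
  have hle : (S : Subgroup G) ≤ N := Subgroup.le_normalizer
  haveI : ((S : Subgroup G).subgroupOf N).Normal := Subgroup.normal_in_normalizer
  haveI : Group.IsSolvable ((S : Subgroup G).subgroupOf N) :=
    Group.isSolvable_of_isSolvable_injective
      (f := (Subgroup.subgroupOfEquivOfLe hle).toMonoidHom) (MulEquiv.injective _)
  haveI : Group.IsSolvable (N ⧸ (S : Subgroup G).subgroupOf N) := Cfsg.Agent.S0205.result <| by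
    refine Nat.not_even_iff_odd.1 fun e => S.not_dvd_index (e.two_dvd.trans ?_)
    rw [← Subgroup.index_eq_card]
    exact Subgroup.relIndex_dvd_index_of_le hle
  exact (Group.isSolvable_iff_subgroup_quotient ((S : Subgroup G).subgroupOf N)).2
    ⟨inferInstance, inferInstance⟩

/-- What the hypothesis says about one subgroup and its nontrivial kernel. -/
structure Loc (M Q : Subgroup G) : Prop where
  le : Q ≤ M
  conj_mem : ∀ g ∈ M, ∀ x ∈ Q, g * x * g⁻¹ ∈ Q
  fpf : ∀ a ∈ M, a ∉ Q → ∀ x ∈ Q, x * a = a * x → x = 1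
  ti : ∀ g : G, g ∉ M → Q ⊓ (MulAut.conj g • Q) = ⊥
  ne_bot : Q ≠ ⊥

variable {M Q : Subgroup G}

theorem Loc.mem_of_conj (h : Loc M Q) {x g : G} (hx : x ∈ Q) (hx1 : x ≠ 1) (hg : g * x * g⁻¹ ∈ Q) :
    g ∈ M := by
  by_contra hgM
  have h1 : g * x * g⁻¹ ∈ Q ⊓ MulAut.conj g • Q :=
    ⟨hg, Subgroup.smul_mem_pointwise_smul x (MulAut.conj g) Q hx⟩
  rw [h.ti g hgM, Subgroup.mem_bot, conj_eq_one_iff] at h1
  exact hx1 h1

/-- The centraliser of a nontrivial element of the kernel lies in the kernel. -/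
theorem Loc.mem_of_commute (h : Loc M Q) {x g : G} (hx : x ∈ Q) (hx1 : x ≠ 1) (hg : Commute g x) :
    g ∈ Q := by
  have hgM : g ∈ M := h.mem_of_conj hx hx1 (by rwa [hg.eq, mul_inv_cancel_right])
  by_contra hgQ
  exact hx1 (h.fpf g hgM hgQ x hx hg.eq.symm)

theorem Loc.le_of_normal_abelian (h : Loc M Q) {N : Subgroup G} [N.Normal]
    (hNM : N ≤ M) (hab : ∀ x ∈ N, ∀ y ∈ N, x * y = y * x) : N ≤ Q := by
  by_cases hb : ∃ n ∈ N, n ∈ Q ∧ n ≠ 1
  · obtain ⟨n, hn, hnQ, hn1⟩ := hb
    exact fun y hy => h.mem_of_commute hnQ hn1 (hab y hy n hn)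
  · push Not at hb
    obtain ⟨f, hf, hf1⟩ := (Subgroup.bot_or_exists_ne_one Q).resolve_left h.ne_bot
    refine fun y hy => h.mem_of_commute hf hf1 ?_
    have h1 : y * f * y⁻¹ * f⁻¹ = 1 := hb _
      (by rw [show y * f * y⁻¹ * f⁻¹ = y * (f * y⁻¹ * f⁻¹) by group]
          exact mul_mem hy (Subgroup.Normal.conj_mem inferInstance _ (inv_mem hy) f))
      (mul_mem (h.conj_mem y (hNM hy) f hf) (inv_mem hf))
    rw [mul_inv_eq_one, mul_inv_eq_iff_eq_mul] at h1
    exact h1

/-- No solvable normal subgroup. -/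
theorem Loc.normal_eq_bot (h : Loc M Q) (hM : MaxSol M) (hG : ¬ Group.IsSolvable G) {N : Subgroup G}
    (hN : N.Normal) (hs : Group.IsSolvable N) : N = ⊥ := by
  classical
  haveI : Fintype (Subgroup G) := Fintype.ofFinite _
  by_contra hne
  set 𝒮 := Finset.univ.filter fun K : Subgroup G => K.Normal ∧ K ≠ ⊥ ∧ Group.IsSolvable K with h𝒮
  obtain ⟨K, hK, hmin⟩ := 𝒮.exists_minimal ⟨N, Finset.mem_filter.2 ⟨Finset.mem_univ _, hN, hne, hs⟩⟩
  obtain ⟨-, hKn, hK1, hKs⟩ := Finset.mem_filter.1 hK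
  haveI := hKn
  haveI := hKs
  haveI : Nontrivial K := (Subgroup.nontrivial_iff_ne_bot K).2 hK1
  have hlt : ⁅K, K⁆ < K := by
    have h1 := Group.IsSolvable.commutator_lt_top_of_nontrivial (G := K)
    rw [← Subgroup.map_subtype_lt_map_subtype, ← MonoidHom.range_eq_map, Subgroup.range_subtype,
      Subgroup.map_subtype_commutator] at h1
    exact h1
  have hbot : ⁅K, K⁆ = ⊥ := by
    by_contra hne'
    exact hlt.not_ge (hmin (Finset.mem_filter.2 ⟨Finset.mem_univ _, inferInstance, hne',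
      isSolvable_of_le hKs hlt.le⟩) hlt.le)
  have hab : ∀ x ∈ K, ∀ y ∈ K, x * y = y * x := fun x hx y hy =>
    commutatorElement_eq_one_iff_mul_comm.1 (Subgroup.mem_bot.1
      (hbot ▸ Subgroup.commutator_mem_commutator hx hy))
  have hKM : K ≤ M := by
    have h1 : M ⊔ K = M := by
      by_contra hne'
      exact hM.2 _ (lt_of_le_of_ne le_sup_left (Ne.symm hne')) (isSolvable_sup_normal hM.1 hKs)
    exact h1 ▸ le_sup_right
  have hKQ := h.le_of_normal_abelian hKM hab
  obtain ⟨k, hk, hk1⟩ := (Subgroup.bot_or_exists_ne_one K).resolve_left hK1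
  have htop : M = ⊤ := eq_top_iff.2 fun g _ =>
    h.mem_of_conj (hKQ hk) hk1 (hKQ (hKn.conj_mem k hk g))
  haveI : Group.IsSolvable (⊤ : Subgroup G) := htop ▸ hM.1
  exact hG (Group.isSolvable_of_isSolvable_injective (f := (Subgroup.topEquiv.symm : G ≃* (⊤ : Subgroup G)).toMonoidHom)
    (MulEquiv.injective _))

/-- A `p`-element of `M` lies in the kernel when `p` divides the order of the kernel. -/
theorem Loc.mem_of_prime_pow (h : Loc M Q) {p : ℕ} [hp : Fact p.Prime] (hpQ : p ∣ Nat.card Q)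
    {y : G} (hy : y ∈ M) {k : ℕ} (hk : y ^ p ^ k = 1) : y ∈ Q := by
  classical
  haveI := Fintype.ofFinite Q
  let σ : Equiv.Perm Q :=
    { toFun := fun x => ⟨y * x * y⁻¹, h.conj_mem y hy x x.2⟩
      invFun := fun x => ⟨y⁻¹ * x * y, by simpa using h.conj_mem y⁻¹ (inv_mem hy) x x.2⟩
      left_inv := fun x => Subtype.ext (by simp [mul_assoc])
      right_inv := fun x => Subtype.ext (by simp [mul_assoc]) }
  have hpow : ∀ (n : ℕ) (x : Q), (((σ ^ n) x : Q) : G) = y ^ n * x * (y ^ n)⁻¹ := by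
    intro n
    induction n with
    | zero => intro x; simp
    | succ n ih =>
      intro x
      rw [pow_succ', Equiv.Perm.mul_apply]
      show y * ((σ ^ n) x : Q) * y⁻¹ = _
      rw [ih]; group
  have hσ : σ ^ p ^ k = 1 := Equiv.ext fun x => Subtype.ext (by rw [hpow, hk]; simp)
  obtain ⟨z, hz, hz1⟩ := Equiv.Perm.exists_fixed_point_of_prime'
    (Nat.card_eq_fintype_card (α := Q) ▸ hpQ) hσ (a := 1) (Subtype.ext (by simp [σ]))
  exact h.mem_of_commute z.2 (fun e => hz1 (Subtype.ext e))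
    (mul_inv_eq_iff_eq_mul.1 (congrArg Subtype.val hz))

/-- With two commuting involutions in `M` the kernel has even order. -/
theorem Loc.two_dvd (h : Loc M Q) {x y : G} (hx : x ∈ M) (hy : y ∈ M) (hx2 : x * x = 1)
    (hy2 : y * y = 1) (hxy : Commute x y) (hx1 : x ≠ 1) (hy1 : y ≠ 1) (hne : x ≠ y) :
    2 ∣ Nat.card Q := by
  by_contra hodd
  have hout : ∀ s : G, s * s = 1 → s ≠ 1 → s ∉ Q := fun s hs hs1 hsQ => hodd <| by
    have h1 : orderOf (⟨s, hsQ⟩ : Q) ∣ Nat.card Q := orderOf_dvd_natCard _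
    rwa [Subgroup.orderOf_mk, Involutions.Basic.orderOf_two_iff.2 ⟨hs, hs1⟩] at h1
  have hinv : ∀ s ∈ M, s * s = 1 → s ≠ 1 → ∀ f ∈ Q, s * f * s⁻¹ = f⁻¹ := by
    intro s hsM hs hs1 f hf
    let φ : Q →* Q :=
      { toFun := fun q => ⟨s * q * s⁻¹, h.conj_mem s hsM q q.2⟩
        map_one' := Subtype.ext (by simp)
        map_mul' := fun q r => Subtype.ext (by simp [mul_assoc]) }
    have hfp : MonoidHom.FixedPointFree φ := fun q hq => Subtype.ext
      (h.fpf s hsM (hout s hs hs1) q q.2 (mul_inv_eq_iff_eq_mul.1 (congrArg Subtype.val hq)).symm)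
    have h2 : Function.Involutive φ := fun q => Subtype.ext (by
      show s * (s * q * s⁻¹) * s⁻¹ = q
      calc s * (s * q * s⁻¹) * s⁻¹ = (s * s) * q * (s * s)⁻¹ := by group
        _ = q := by rw [hs]; group)
    exact congrArg (fun q : Q => (q : G)) (congrFun (hfp.coe_eq_inv_of_involutive h2) ⟨f, hf⟩)
  obtain ⟨f, hf, hf1⟩ := (Subgroup.bot_or_exists_ne_one Q).resolve_left h.ne_bot
  have hz1 : x * y ≠ 1 := fun e => hne (by
    rw [← inv_eq_of_mul_eq_one_right hx2, inv_eq_of_mul_eq_one_right e])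
  have hz2 : x * y * (x * y) = 1 := by
    rw [hxy.symm.mul_mul_mul_comm x y, hx2, hy2, one_mul]
  refine hout _ hz2 hz1 (h.mem_of_commute hf hf1 (mul_inv_eq_iff_eq_mul.1 ?_))
  calc x * y * f * (x * y)⁻¹ = x * (y * f * y⁻¹) * x⁻¹ := by group
    _ = (x * f * x⁻¹)⁻¹ := by rw [hinv y hy hy2 hy1 f hf]; group
    _ = f := by rw [hinv x hx hx2 hx1 f hf, inv_inv]

/-- The configuration which the counting works with. -/
structure Cfg (M Q : Subgroup G) : Prop extends Loc M Q where
  ne_top : M ≠ ⊤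
  core : M.normalCore = ⊥
  two : ∃ x y : G, x ≠ 1 ∧ y ≠ 1 ∧ x ≠ y ∧ x * x = 1 ∧ y * y = 1 ∧ x * y = y * x ∧ x ∈ M ∧ y ∈ M
  even : 2 ∣ Nat.card Q

theorem exists_cfg (hG : ¬ Group.IsSolvable G) (F : Subgroup G → Subgroup G)
    (h : ∀ M : Subgroup G, MaxSol M →
      F M ≤ M ∧ M ≤ Subgroup.normalizer (F M : Set G) ∧
      (∀ a ∈ M, a ∉ F M → ∀ x ∈ F M, x * a = a * x → x = 1) ∧
      (∀ g : G, g ∉ M → F M ⊓ (MulAut.conj g • F M) = ⊥) ∧
      (F M ≠ ⊥ ∨ IsMulCommutative M)) :
    ∃ M Q : Subgroup G, Cfg M Q := by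
  classical
  haveI : Fact (Nat.Prime 2) := ⟨Nat.prime_two⟩
  obtain ⟨S⟩ : Nonempty (Sylow 2 G) := inferInstance
  obtain ⟨M, hNM, hM⟩ := exists_maxSol (isSolvable_normalizer_sylow_two S)
  have hSM : (S : Subgroup G) ≤ M := Subgroup.le_normalizer.trans hNM
  obtain ⟨h1, h2, h3, h4, h5⟩ := h M hM
  have hne : F M ≠ ⊥ := h5.resolve_right fun hc => hG <| isSolvable_of_sylow_two_central S
    fun g hg => Subgroup.mem_centralizer_iff.2 fun s hs =>
      congrArg Subtype.val (hc.is_comm.comm ⟨s, hSM hs⟩ ⟨g, hNM hg⟩)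
  have hL : Loc M (F M) := ⟨h1, fun g hg => Subgroup.le_normalizer_iff.1 h2 g hg, h3, h4, hne⟩
  have hbot := fun (N : Subgroup G) (hN : N.Normal) (hs : Group.IsSolvable N) => hL.normal_eq_bot hM hG hN hs
  -- a central involution of `S`
  have hSne : Nontrivial (S : Subgroup G) := by
    by_contra hS
    refine hG (Cfsg.Agent.S0205.result (Nat.not_even_iff_odd.1 fun e => S.not_dvd_index ?_))
    rw [not_nontrivial_iff_subsingleton] at hS
    have h6 := (S : Subgroup G).card_mul_index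
    rw [Nat.card_unique, one_mul] at h6
    exact h6 ▸ e.two_dvd
  haveI := hSne
  haveI := S.2.center_nontrivial
  obtain ⟨z', hz'⟩ : ∃ z : Subgroup.center (S : Subgroup G), orderOf z = 2 := by
    obtain ⟨n, hn, hc⟩ := (S.2.to_subgroup (Subgroup.center (S : Subgroup G))).nontrivial_iff_card.1 inferInstance
    exact exists_prime_orderOf_dvd_card' 2 (hc ▸ dvd_pow_self 2 (by omega))
  set z : G := ((z' : (S : Subgroup G)) : G) with hz
  have hzS : z ∈ (S : Subgroup G) := (z' : (S : Subgroup G)).2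
  have hzo : orderOf z = 2 := by rw [hz, Subgroup.orderOf_coe, Subgroup.orderOf_coe, hz']
  obtain ⟨hz2, hz1⟩ := Involutions.Basic.orderOf_two_iff.1 hzo
  obtain ⟨x, hxS, hx2, hx1, hxz⟩ : ∃ x ∈ (S : Subgroup G), x * x = 1 ∧ x ≠ 1 ∧ x ≠ z := by
    by_contra hall
    push Not at hall
    -- otherwise `z` is isolated
    have hiso : Cfsg.IsIsolatedInvolution z := by
      refine ⟨hzo, fun g hg => ?_⟩
      set w := g * z * g⁻¹ with hw
      have hwo : orderOf w = 2 := by rw [hw, Involutions.Basic.orderOf_conj, hzo]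
      have hp : ∀ {v : G}, orderOf v = 2 → IsPGroup 2 (Subgroup.zpowers v) := fun hv =>
        IsPGroup.of_card (n := 1) (by rw [Nat.card_zpowers, hv, pow_one])
      have hsup : IsPGroup 2 ↥(Subgroup.zpowers z ⊔ Subgroup.zpowers w) := by
        refine (hp hzo).to_sup_of_normal_right' (hp hwo) ?_
        rw [Subgroup.zpowers_le]
        refine Subgroup.centralizer_le_normalizer _ (Subgroup.mem_centralizer_iff.2 ?_)
        intro v hv
        obtain ⟨i, rfl⟩ := Subgroup.mem_zpowers_iff.1 hv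
        exact ((hg.symm).zpow_left i).eq
      obtain ⟨P, hP⟩ := hsup.exists_le_sylow
      obtain ⟨k, rfl⟩ := MulAction.exists_smul_eq G S P
      have hm : ∀ v ∈ ((k • S : Sylow 2 G) : Subgroup G), orderOf v = 2 → k⁻¹ * v * k = z := by
        intro v hv hv2
        rw [Sylow.coe_subgroup_smul, Subgroup.mem_pointwise_smul_iff_inv_smul_mem] at hv
        simp only [MulAut.smul_def, MulAut.conj_inv_apply] at hv
        have hv' : orderOf (k⁻¹ * v * k) = 2 := by
          have := Involutions.Basic.orderOf_conj k⁻¹ v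
          rw [inv_inv, hv2] at this
          exact this
        obtain ⟨h7, h8⟩ := Involutions.Basic.orderOf_two_iff.1 hv'
        exact hall _ hv h7 h8
      have e1 := hm z (hP (Subgroup.mem_sup_left (Subgroup.mem_zpowers z))) hzo
      have e2 := hm w (hP (Subgroup.mem_sup_right (Subgroup.mem_zpowers w))) hwo
      exact mul_left_cancel (mul_right_cancel (e2.trans e1.symm))
    have hodd : Cfsg.oddCore G = ⊥ := hbot _ inferInstance
      (Cfsg.Agent.S0205.result Agent.InvChar.Core.odd_card_oddCore)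
    have hcen : ∀ g : G, g * z * g⁻¹ = z := fun g => by
      have h6 := Agent.ZStar.Main.commutator_mem_oddCore hiso g
      rw [hodd, Subgroup.mem_bot, mul_inv_eq_one, mul_inv_eq_iff_eq_mul] at h6
      rw [mul_inv_eq_iff_eq_mul]
      exact h6.symm
    haveI : Group.IsSolvable (Subgroup.zpowers z) := Group.isSolvable_of_comm fun a b => by
      obtain ⟨a, i, rfl⟩ := a
      obtain ⟨b, j, rfl⟩ := b
      exact Subtype.ext ((Commute.refl z).zpow_zpow i j).eq
    have hn : (Subgroup.zpowers z).Normal := ⟨fun v hv g => by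
      obtain ⟨i, rfl⟩ := Subgroup.mem_zpowers_iff.1 hv
      rw [← conj_zpow, hcen]
      exact Subgroup.zpow_mem_zpowers z i⟩
    have h9 : z ∈ (⊥ : Subgroup G) := hbot _ hn inferInstance ▸ Subgroup.mem_zpowers z
    exact hz1 (Subgroup.mem_bot.1 h9)
  have hcomm : Commute x z :=
    congrArg Subtype.val (Subgroup.mem_center_iff.1 z'.2 ⟨x, hxS⟩)
  exact ⟨M, F M, hL, fun e => hG (by
      haveI : Group.IsSolvable (⊤ : Subgroup G) := e ▸ hM.1
      exact Group.isSolvable_of_isSolvable_injective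
        (f := (Subgroup.topEquiv.symm : G ≃* (⊤ : Subgroup G)).toMonoidHom) (MulEquiv.injective _)),
    hbot _ inferInstance (isSolvable_of_le hM.1 M.normalCore_le), ⟨x, z, hx1, hz1, hxz, hx2, hz2, hcomm.eq, hSM hxS, hSM hzS⟩,
    hL.two_dvd (hSM hxS) (hSM hzS) hx2 hz2 hcomm hx1 hz1 hxz⟩

end Cfsg.Agent.FrobeniusSystem
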